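import Cfsg.Agent.Lib.ReeBT.Optimal

/-!
The twist ρ is linear on roots, up to the factor 1 at short and 2 at long roots.
-/

set_option autoImplicit false

namespace CfsgLib.ReeBT

open Cfsg.Lie CfsgLib.Chev CfsgLib.ReeF4

theorem lin_check : ∀ r : Fin 48, ∀ j : Fin 4,
    ef r.val * wt D tb (rho r.val) j.val =
      wt D tb r.val 0 * (ef (D.simple 0) * wt D tb (rho (D.simple 0)) j.val) +
      wt D tb r.val 1 * (ef (D.simple 1) * wt D tb (rho (D.simple 1)) j.val) +
      wt D tb r.val 2 * (ef (D.simple 2) * wt D tb (rho (D.simple 2)) j.val) +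
      wt D tb r.val 3 * (ef (D.simple 3) * wt D tb (rho (D.simple 3)) j.val) := by decide +kernel

end CfsgLib.ReeBT
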