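import Cfsg.Agent.Lib.ReeBT.Optimal
import Cfsg.Agent.Lib.Chev.WeylSum

/-!
Existence and uniqueness of the optimal point for the weighted problem in F4, in characteristic two.
-/

set_option autoImplicit false
set_option linter.unusedSectionVars false

namespace CfsgLib.ReeBT

open Cfsg.Lie CfsgLib.Chev CfsgLib.ChevCent CfsgLib.ReeF4

variable {F : Type*} [Field F]

/-- the zero set of a point -/
def zset (x : Fin D.rank → ℝ) : Set ℕ := {j | ∃ hj : j < D.rank, x ⟨j, hj⟩ = 0}

/-- two dominant points in one orbit of the Weyl group are equal -/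
theorem dominant_unique {x x' : Fin D.rank → ℝ} (hx : ∀ i, 0 ≤ x i) (hx' : ∀ i, 0 ≤ x' i) :
    ∀ (n : ℕ) (L : List (Fin D.rank)), L.length = n →
      (∀ r, r < D.nroots → valR D tb x (sigs D tb L r) = valR D tb x' r) → x = x' := by
  intro n
  induction n using Nat.strong_induction_on with
  | _ n ih =>
    intro L hn h
    by_cases hall : ∀ i : Fin D.rank, D.nroots / 2 ≤ sigs D tb L (D.simple i.val)
    · funext i
      have := h _ (simple_lt hc i.2)
      rwa [sigs_id_of_pos hc hall (simple_lt hc i.2), valR_simple hc, valR_simple hc] at this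
    push Not at hall
    obtain ⟨i, hi⟩ := hall
    have hs := simple_lt hc i.2
    have hlt := sigs_lt hc L hs
    have hxi : x' i = 0 := by
      have h1 := h _ hs
      rw [valR_simple hc] at h1
      have h2 : valR D tb x (sigs D tb L (D.simple i.val)) ≤ 0 := by
        by_contra g
        push Not at g
        exact absurd (pos_of_valR hc hx hlt g) (not_le.2 hi)
      linarith [hx' i]
    have hfix : ∀ r, r < D.nroots → valR D tb x' (sig D tb i r) = valR D tb x' r := by
      intro r hr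
      show (∑ j, (rv D tb (sig D tb i r) j : ℝ) * x' j) = ∑ j, (rv D tb r j : ℝ) * x' j
      refine Finset.sum_congr rfl fun j _ => ?_
      by_cases hji : j = i
      · rw [hji, hxi, mul_zero, mul_zero]
      · rw [rv_sig hc i hr, CfsgLib.Chev.refl, Pi.sub_apply, Pi.single_eq_of_ne hji, sub_zero]
    obtain ⟨L', h1, h2, -⟩ := exchange hc (F := ℚ) L i hi
    refine ih L'.length (by omega) L' rfl fun r hr => ?_
    rw [← h2 r hr, sigs_append]
    show valR D tb x (sigs D tb L (sig D tb i r)) = _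
    rw [h _ (sig_lt hc i hr), hfix r hr]

variable (h2 : (2 : F) = 0)
include h2

/-- minimising pairs have the same point and differ by elements of its parabolic subgroup -/
theorem minimiser_unique {R : Subgroup (GL D.Idx F)} {g h : GL D.Idx F} {x x' : Fin D.rank → ℝ}
    (hg : FeasW R g x) (hh : FeasW R h x') (hQ : quadW x' = quadW x)
    (hmin : ∀ g' z', FeasW R g' z' → quadW x ≤ quadW z') :
    x = x' ∧ g⁻¹ * h ∈ D.parabolicSubgroup F (zset x) := by
  classical
  obtain ⟨hgG, hx, hgR⟩ := hg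
  obtain ⟨hhG, hx', hhR⟩ := hh
  have hB := borel_le_normalizer_high h2 hx
  have hB' := borel_le_normalizer_high h2 hx'
  obtain ⟨L, u, d, v, hu, hd, hv, e⟩ := ChevField.exists_bruhat hc hcomm (mul_mem (inv_mem hgG) hhG)
  have hub : u * d ∈ D.borelSubgroup F := mul_mem (pos_le_borel hc hu) (diagonal_le_borel hc hd)
  have hvb : v ∈ D.borelSubgroup F := pos_le_borel hc (uGen_mono (fun r _ hP => hP.1) hv)
  set a := g * (u * d) with ha
  set n := nProd D F L with hn
  have hh' : h = a * n * v := by rw [ha, mul_assoc, mul_assoc, ← mul_assoc (u * d), ← e]; group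
  let P : ℕ → Prop := fun s => HighW x' s ∧ KeepRoot D tb L s
  let P' : ℕ → Prop := fun r => D.nroots / 2 ≤ r ∧ ∃ s, s < D.nroots ∧ P s ∧ sigs D tb L s = r
  have hP : ClosedPos D tb P := ChevCent.closedPos_and hc (closedPos_high x') (closedPos_keep hc L)
  have hP' : ClosedPos D tb P' := closedPos_img hc L hP
  have key : ∀ k ∈ R, a⁻¹ * k * a ∈ uGen D F (fun r => HighW x r ∧ P' r) := by
    intro k hk
    have h1 : a⁻¹ * k * a ∈ uGen D F (HighW x) := by
      have := ((Subgroup.mem_normalizer_iff).1 (hB (inv_mem hub)) _).1 (hgR k hk)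
      convert this using 1
      rw [ha]; group
    have h2' : n⁻¹ * (a⁻¹ * k * a) * n ∈ uGen D F (HighW x') := by
      have := ((Subgroup.mem_normalizer_iff).1 (hB' hvb) _).1 (hhR k hk)
      convert this using 1
      rw [hh']; group
    have h3 : n⁻¹ * (a⁻¹ * k * a) * n ∈ uGen D F (KeepRoot D tb L) := by
      refine mem_keep hc hcomm L (uGen_mono (fun r _ hr => hr.1) h2') ?_
      rw [show nProd D F L * (n⁻¹ * (a⁻¹ * k * a) * n) * (nProd D F L)⁻¹ = a⁻¹ * k * a by rw [hn]; group]
      exact pos_le_borel hc (uGen_mono (fun r _ hr => hr.1) h1)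
    have h4 := uGen_inter hc hcomm (closedPos_high x') (closedPos_keep hc L) h2' h3
    have h5 := ChevField.nProd_conj_uGen hc L (Q := P')
      (fun r hr hPr => ⟨hPr.2.2, r, hr, hPr, rfl⟩) h4
    rw [show nProd D F L * (n⁻¹ * (a⁻¹ * k * a) * n) * (nProd D F L)⁻¹ = a⁻¹ * k * a by rw [hn]; group] at h5
    exact uGen_inter hc hcomm (closedPos_high x) hP' h1 h5
  set y := pullR D tb L.reverse x' with hy
  set z : Fin D.rank → ℝ := fun i => (x i + y i) / 2 with hz
  have hvz : ∀ r, valR D tb z r = (valR D tb x r + valR D tb y r) / 2 := by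
    intro r
    simp only [valR, hz, ← Finset.sum_add_distrib, Finset.sum_div]
    exact Finset.sum_congr rfl fun j _ => by ring
  obtain ⟨M, hM⟩ := exists_dominant_word hc z
  obtain ⟨d', hd', einv⟩ := nProd_inv hc (F := F) M
  have haG : a ∈ D.group F := mul_mem hgG (borel_le_group hc hub)
  have hfeas : FeasW R (a * nProd D F M) (pullR D tb M z) := by
    refine ⟨mul_mem haG (monomial_le_group hc (nProd_mem_monomial hc M)), hM, fun k hk => ?_⟩
    have h6 := ChevField.nProd_conj_uGen hc M.reverse (Q := HighW (pullR D tb M z)) (fun r hr hPr => by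
      obtain ⟨⟨-, hxr⟩, -, s, hs, ⟨⟨-, hxs⟩, -⟩, rfl⟩ := hPr
      have hw := sigs_lt hc L hs
      set w := sigs D tb M.reverse (sigs D tb L s)
      have hwn : w < D.nroots := sigs_lt hc M.reverse hw
      have hMw : sigs D tb M w = sigs D tb L s := by
        have := sigs_reverse hc M.reverse hw
        rwa [List.reverse_reverse] at this
      have hyr : valR D tb y (sigs D tb L s) = valR D tb x' s := by
        rw [hy, valR_pull hc _ x' hw, sigs_reverse hc L hs]
      have et : thr w = thr s := by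
        simp only [thr, w, rexp_sigs _ hw, rexp_sigs _ hs]
      have et' : thr (sigs D tb L s) = thr s := by simp only [thr, rexp_sigs _ hs]
      have hval : thr w ≤ valR D tb (pullR D tb M z) w := by
        rw [valR_pull hc M z hwn, hMw, hvz, hyr, et]
        linarith
      exact ⟨pos_of_valR hc hM hwn (lt_of_lt_of_le (lt_of_lt_of_le one_pos (one_le_thr w)) hval), hval⟩) (key k hk)
    have h7 := diag_conj_mem hc (HighW (pullR D tb M z)) hd' h6
    convert h7 using 1
    rw [mul_inv_rev, einv]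
    have e' : nProd D F M = (d' * nProd D F M.reverse)⁻¹ := by rw [← einv, inv_inv]
    conv_lhs => rw [e']
    group
  have hQz := hmin _ _ hfeas
  rw [quadW_pull] at hQz
  have hQy : quadW y = quadW x := by rw [hy, quadW_pull, hQ]
  have hzero : ∀ r, r < D.nroots → valR D tb x r = valR D tb y r := by
    intro r hr
    have hsum : ∑ r ∈ Finset.range D.nroots, wq r * (valR D tb x r - valR D tb y r) ^ 2
        = 2 * quadW x + 2 * quadW y - 4 * quadW z := by
      simp only [quadW, Finset.mul_sum, ← Finset.sum_add_distrib, ← Finset.sum_sub_distrib]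
      exact Finset.sum_congr rfl fun s _ => by rw [hvz]; ring
    have h0 : ∑ r ∈ Finset.range D.nroots, wq r * (valR D tb x r - valR D tb y r) ^ 2 ≤ 0 := by
      rw [hsum, hQy]; linarith
    have h8 := le_trans (Finset.single_le_sum (f := fun s => wq s * (valR D tb x s - valR D tb y s) ^ 2)
      (fun s _ => mul_nonneg (le_trans zero_le_one (one_le_wq s)) (sq_nonneg _)) (Finset.mem_range.2 hr)) h0
    exact sub_eq_zero.1 (by nlinarith [one_le_wq r, sq_nonneg (valR D tb x r - valR D tb y r)])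
  have hxx : x = x' := dominant_unique hx hx' _ L rfl fun r hr => by
    rw [hzero _ (sigs_lt hc L hr), hy, valR_pull hc _ x' (sigs_lt hc L hr), sigs_reverse hc L hr]
  subst hxx
  refine ⟨rfl, ?_⟩
  have hnP : n ∈ D.parabolicSubgroup F (zset x) := by
    refine nProd_mem_parabolic hc (F := F) _ L rfl fun r hr hR => ?_
    obtain ⟨hp, j, hj, hne⟩ := (outRoot_iff hc hr).1 hR
    have hxj : 0 < x j := lt_of_le_of_ne (hx j) fun e0 => hj ⟨j.2, e0.symm⟩
    have hpos : 0 < valR D tb x r := by
      refine lt_of_lt_of_le (mul_pos (?_ : (0 : ℝ) < (rv D tb r j : ℝ)) hxj)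
        (Finset.single_le_sum (f := fun i => (rv D tb r i : ℝ) * x i)
          (fun i _ => mul_nonneg (by exact_mod_cast rv_nonneg hc hr hp i) (hx i)) (Finset.mem_univ j))
      exact_mod_cast lt_of_le_of_ne (rv_nonneg hc hr hp j) (Ne.symm hne)
    refine pos_of_valR hc hx (sigs_lt hc L hr) ?_
    rw [hzero _ (sigs_lt hc L hr), hy, valR_pull hc _ x (sigs_lt hc L hr), sigs_reverse hc L hr]
    exact hpos
  rw [e]
  exact mul_mem (mul_mem (Subgroup.mem_sup_left hub) hnP) (Subgroup.mem_sup_left hvb)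

omit h2 in
/-- an optimal pair exists -/
theorem exists_minimiser [Finite F] [CharP F 2] {R : Subgroup (GL D.Idx F)}
    (hRG : R ≤ D.group F) (hR : IsPGroup 2 ↥R) :
    ∃ g x, FeasW R g x ∧ ∀ g' x', FeasW R g' x' → quadW x ≤ quadW x' := by
  classical
  haveI : Fact (Nat.Prime 2) := ⟨Nat.prime_two⟩
  obtain ⟨P, hP⟩ := ChevAut.sylow_pos hc hcomm (F := F) 2
  obtain ⟨Q, hQ⟩ := (hR.of_equiv (Subgroup.subgroupOfEquivOfLe hRG).symm).exists_le_sylow
  obtain ⟨c, hcQ⟩ := MulAction.exists_smul_eq ↥(D.group F) P Q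
  have h0 : FeasW R (c : GL D.Idx F) (fun _ => 2) := by
    refine ⟨c.2, fun _ => zero_le_two, fun k hk => ?_⟩
    have h1 : (⟨k, hRG hk⟩ : ↥(D.group F)) ∈ (Q : Subgroup ↥(D.group F)) := hQ hk
    rw [← hcQ, Sylow.coe_subgroup_smul, Subgroup.mem_pointwise_smul_iff_inv_smul_mem, hP,
      Subgroup.mem_subgroupOf] at h1
    have h2 : (c : GL D.Idx F)⁻¹ * k * c ∈ uGen D F (fun r => D.nroots / 2 ≤ r) := by
      simpa [MulAut.smul_def] using h1
    refine uGen_mono (fun r hr hp => ?_) h2
    refine ⟨hp, ?_⟩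
    have hnz : ∃ j, rv D tb r j ≠ 0 := by
      by_contra hh; push Not at hh; exact rv_ne_zero hc hr (funext hh)
    obtain ⟨j, hj⟩ := hnz
    have hj1 : (1 : ℝ) ≤ (rv D tb r j : ℝ) := by
      exact_mod_cast (lt_of_le_of_ne (rv_nonneg hc hr hp j) (Ne.symm hj))
    refine le_trans (thr_le_two r) (le_trans (by linarith : (2 : ℝ) ≤ (rv D tb r j : ℝ) * 2)
      (Finset.single_le_sum (f := fun i => (rv D tb r i : ℝ) * (2 : ℝ))
      (fun i _ => mul_nonneg (by exact_mod_cast rv_nonneg hc hr hp i) zero_le_two) (Finset.mem_univ j)))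
  let x₀ : Fin D.rank → ℝ := fun _ => 2
  let good : Finset (Finset ℕ) := (Finset.range D.nroots).powerset.filter fun S =>
    ∃ g ∈ D.group F, (∀ r ∈ S, D.nroots / 2 ≤ r) ∧ ∀ k ∈ R, g⁻¹ * k * g ∈ uGen D F (fun r => r ∈ S)
  let C : Set (Fin D.rank → ℝ) :=
    {x | quadW x ≤ quadW x₀} ∩ ⋃ S ∈ good, {x | (∀ i, 0 ≤ x i) ∧ ∀ r ∈ S, thr r ≤ valR D tb x r}
  have hmem : ∀ g x, FeasW R g x → quadW x ≤ quadW x₀ → x ∈ C := by
    rintro g x ⟨hg, hx, hk⟩ hle
    refine ⟨hle, Set.mem_biUnion (x := (Finset.range D.nroots).filter fun r => HighW x r) ?_ ⟨hx, ?_⟩⟩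
    · refine Finset.mem_filter.2 ⟨Finset.mem_powerset.2 (Finset.filter_subset _ _), g, hg,
        fun r hr => (Finset.mem_filter.1 hr).2.1, fun k hkR => uGen_mono (fun r hr h => ?_) (hk k hkR)⟩
      exact Finset.mem_filter.2 ⟨Finset.mem_range.2 hr, h⟩
    · exact fun r hr => (Finset.mem_filter.1 hr).2.2
  have hcont : ∀ r, Continuous fun x : Fin D.rank → ℝ => valR D tb x r := fun r => by
    unfold valR; fun_prop
  have hQc : Continuous fun x : Fin D.rank → ℝ => quadW x := by
    unfold quadW; exact continuous_finset_sum _ fun r _ => ((hcont r).pow 2).const_mul _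
  have hclosed : IsClosed C := by
    refine (isClosed_le hQc continuous_const).inter (Set.Finite.isClosed_biUnion good.finite_toSet fun S _ => ?_)
    simp only [Set.setOf_and, Set.setOf_forall]
    exact (isClosed_iInter fun i => isClosed_le continuous_const (continuous_apply i)).inter
      (isClosed_iInter fun r => isClosed_iInter fun _ => isClosed_le continuous_const (hcont r))
  have hsub : C ⊆ Set.Icc (fun _ => -(quadW x₀ + 1)) (fun _ => quadW x₀ + 1) := by
    rintro x ⟨hle, -⟩
    have hb : ∀ i, |x i| ≤ quadW x₀ + 1 := fun i => by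
      have h1 := le_trans (sq_le_quadW x i) hle
      nlinarith [sq_nonneg (|x i| - 1), sq_abs (x i), abs_nonneg (x i)]
    exact ⟨fun i => (abs_le.1 (hb i)).1, fun i => (abs_le.1 (hb i)).2⟩
  obtain ⟨x, hxC, hxmin⟩ := (isCompact_Icc.of_isClosed_subset hclosed hsub).exists_isMinOn
    ⟨x₀, hmem _ _ h0 le_rfl⟩ hQc.continuousOn
  obtain ⟨hle, hxU⟩ := hxC
  simp only [Set.mem_iUnion, Set.mem_setOf_eq] at hxU
  obtain ⟨S, hS, hx0, hxS⟩ := hxU
  obtain ⟨-, g, hg, hSp, hSk⟩ := Finset.mem_filter.1 hS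
  refine ⟨g, x, ⟨hg, hx0, fun k hk => uGen_mono (fun r _ hr => ?_) (hSk k hk)⟩, fun g' x' h' => ?_⟩
  · exact ⟨hSp r hr, hxS r hr⟩
  · by_cases hq : quadW x' ≤ quadW x₀
    · exact hxmin (hmem g' x' h' hq)
    · exact le_trans hle (le_of_lt (not_le.1 hq))

end CfsgLib.ReeBT
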