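import Cfsg.Agent.Lib.ChevCent.Optimal
import Cfsg.Agent.Lib.Twisted.F4Sigma

/-!
Optimal parabolic subgroups of F4 with thresholds 1 at short and √2 at long roots: this normalisation
is respected by the exceptional automorphism, so the optimal point of a σ-fixed 2-subgroup is σ-stable.
-/

set_option autoImplicit false
set_option linter.unusedSectionVars false

namespace CfsgLib.ReeBT

open Cfsg.Lie CfsgLib.Chev CfsgLib.ChevCent CfsgLib.ReeF4

abbrev D : ChevalleyDatum := chevF4

variable {F : Type*} [Field F]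

/-- the threshold: 1 at short roots, √2 at long ones -/
noncomputable def thr (r : ℕ) : ℝ := if rexp r = 2 then 1 else Real.sqrt 2

/-- the weight in the quadratic form -/
def wq (r : ℕ) : ℝ := if rexp r = 2 then 2 else 1

/-- the integral factor of the twist -/
def ef (r : ℕ) : ℤ := if rexp r = 2 then 1 else 2

theorem one_le_sqrt_two : (1 : ℝ) ≤ Real.sqrt 2 := Real.one_le_sqrt.2 one_le_two

theorem sqrt_two_le : Real.sqrt 2 ≤ 2 := by
  rw [Real.sqrt_le_iff]; norm_num

theorem one_le_thr (r : ℕ) : 1 ≤ thr r := by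
  unfold thr; split
  · exact le_rfl
  · exact one_le_sqrt_two

theorem thr_le_two (r : ℕ) : thr r ≤ 2 := by
  unfold thr; split
  · exact one_le_two
  · exact sqrt_two_le

theorem one_le_wq (r : ℕ) : 1 ≤ wq r := by
  unfold wq; split <;> norm_num

theorem rexp_sigs (L : List (Fin D.rank)) {r : ℕ} (hr : r < D.nroots) :
    rexp (sigs D tb L r) = rexp r := by
  induction L with
  | nil => rfl
  | cons i L ih =>
    show rexp (sig D tb i (sigs D tb L r)) = _
    rw [← reflectRoot_eq hc i (sigs_lt hc L hr), rexp_sig i ⟨_, sigs_lt hc L hr⟩, ih]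

/-- positive roots reaching their threshold -/
def HighW (x : Fin D.rank → ℝ) (r : ℕ) : Prop := D.nroots / 2 ≤ r ∧ thr r ≤ valR D tb x r

/-- `(g, x)` puts `R` into the group of the roots reaching their threshold -/
def FeasW (R : Subgroup (GL D.Idx F)) (g : GL D.Idx F) (x : Fin D.rank → ℝ) : Prop :=
  g ∈ D.group F ∧ (∀ i, 0 ≤ x i) ∧ ∀ k ∈ R, g⁻¹ * k * g ∈ uGen D F (HighW x)

/-- the weighted quadratic form -/
noncomputable def quadW (x : Fin D.rank → ℝ) : ℝ :=
  ∑ r ∈ Finset.range D.nroots, wq r * valR D tb x r ^ 2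

theorem closedPos_high (x : Fin D.rank → ℝ) : ClosedPos D tb (HighW x) := by
  refine ⟨fun r _ h => h.1, fun r s v hr hs h1 h2 hv =>
    ⟨(closedPos_pos hc).2 r s v hr hs h1.1 h2.1 hv, ?_⟩⟩
  obtain ⟨-, a, b, ha, hb, e⟩ := hv
  rw [valR_comb hc x e]
  have ha' : (1 : ℝ) ≤ (a : ℝ) := by exact_mod_cast ha
  have hb' : (1 : ℝ) ≤ (b : ℝ) := by exact_mod_cast hb
  have := one_le_thr r; have := one_le_thr s; have := thr_le_two v
  have := h1.2; have := h2.2
  push_cast
  nlinarith

theorem quadW_pull (L : List (Fin D.rank)) (x : Fin D.rank → ℝ) :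
    quadW (pullR D tb L x) = quadW x := by
  refine Finset.sum_nbij' (fun r => sigs D tb L r) (fun r => sigs D tb L.reverse r)
    (fun r hr => Finset.mem_range.2 (sigs_lt hc L (Finset.mem_range.1 hr)))
    (fun r hr => Finset.mem_range.2 (sigs_lt hc L.reverse (Finset.mem_range.1 hr)))
    (fun r hr => sigs_reverse hc L (Finset.mem_range.1 hr))
    (fun r hr => by
      have := sigs_reverse hc L.reverse (Finset.mem_range.1 hr)
      rwa [List.reverse_reverse] at this)
    (fun r hr => ?_)
  rw [valR_pull hc L x (Finset.mem_range.1 hr), wq, wq, rexp_sigs L (Finset.mem_range.1 hr)]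

theorem sq_le_quadW (x : Fin D.rank → ℝ) (i : Fin D.rank) : x i ^ 2 ≤ quadW x := by
  rw [← valR_simple hc x i]
  refine le_trans ?_ (Finset.single_le_sum (f := fun r => wq r * valR D tb x r ^ 2)
    (fun r _ => mul_nonneg (le_trans zero_le_one (one_le_wq r)) (sq_nonneg _))
    (Finset.mem_range.2 (simple_lt hc i.2)))
  nlinarith [one_le_wq (D.simple i.val), sq_nonneg (valR D tb x (D.simple i.val))]

theorem rexp_cases : ∀ r : Fin 48, rexp r.val = 1 ∨ rexp r.val = 2 := by decide +kernel

/-- in characteristic two the surviving commutator terms never raise one short root to a long one -/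
theorem term_check : ∀ r s : Fin 48, ∀ c ∈ chevF4.commTerms r.val s.val,
    c.2.1 % 2 ≠ 0 → rexp c.1 = 1 → rexp s.val = 2 → c.2.2.2 ≠ 1 := by decide +kernel

variable (h2 : (2 : F) = 0)
include h2

theorem cast_even {c : ℤ} (h : c % 2 = 0) : (c : F) = 0 := by
  obtain ⟨d, rfl⟩ := Int.dvd_of_emod_eq_zero h
  rw [Int.cast_mul, Int.cast_ofNat, h2, zero_mul]

/-- a root group of a root of non-negative value normalises the group of high roots -/
theorem elX_conj_high {x : Fin D.rank → ℝ} {a s : ℕ} (ha : a < D.nroots) (hs : s < D.nroots)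
    (hap : D.nroots / 2 ≤ a) (hx0 : 0 ≤ valR D tb x a) (hS : HighW x s) (hsa : s ≠ a) (t u : F) :
    elX D F a t * elX D F s u * (elX D F a t)⁻¹ ∈ uGen D F (HighW x) := by
  rw [elX_conj_elX hc hcomm ha hs hsa (ne_neg_of_pos hc ha hap hS.1)]
  refine mul_mem (elX_mem_uGen hs hS u) (Subgroup.list_prod_mem _ fun g hg => ?_)
  obtain ⟨p, hp, rfl⟩ := List.mem_map.1 hg
  have hcomb := commWord_mem hc ha hs (-t) u p hp
  rw [ChevalleyDatum.commWord, List.mem_map] at hp
  obtain ⟨c, hcm, rfl⟩ := hp
  obtain ⟨hv, hi, hj, e⟩ := commTerms_weight hc ha hs c hcm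
  by_cases heven : c.2.1 % 2 = 0
  · simp only [cast_even h2 heven, zero_mul]
    rw [elX_zero hc F hv]
    exact one_mem _
  refine elX_mem_uGen hv ⟨(closedPos_pos hc).2 a s c.1 ha hs hap hS.1 hcomb, ?_⟩ _
  rw [valR_comb hc x e]
  have hi' : (1 : ℝ) ≤ (c.2.2.1 : ℝ) := by exact_mod_cast hi
  have hj' : (1 : ℝ) ≤ (c.2.2.2 : ℝ) := by exact_mod_cast hj
  have h1 := hS.2
  have hs0 := one_le_thr s
  have h3 : thr c.1 ≤ (c.2.2.2 : ℝ) * thr s := by
    have := one_le_sqrt_two; have := sqrt_two_le
    by_cases hcs : rexp s = 2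
    · have e1 : thr s = 1 := if_pos hcs
      rw [e1, mul_one]
      by_cases hcv : rexp c.1 = 2
      · rw [show thr c.1 = 1 from if_pos hcv]; exact hj'
      · have hv2 : rexp c.1 = 1 := (rexp_cases ⟨c.1, hv⟩).resolve_right hcv
        have := term_check ⟨a, ha⟩ ⟨s, hs⟩ c hcm heven hv2 hcs
        have h4 : (2 : ℝ) ≤ (c.2.2.2 : ℝ) := by exact_mod_cast (by omega : 2 ≤ c.2.2.2)
        linarith [thr_le_two c.1]
    · rw [show thr s = Real.sqrt 2 from if_neg hcs]
      unfold thr; split <;> nlinarith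
  push_cast
  nlinarith

theorem borel_le_normalizer_high {x : Fin D.rank → ℝ} (hx : ∀ i, 0 ≤ x i) :
    D.borelSubgroup F ≤ Subgroup.normalizer (uGen D F (HighW x) : Set (GL D.Idx F)) := by
  rw [ChevalleyDatum.borelSubgroup, posUnipotent_eq hc]
  refine sup_le ?_ (diagonal_le_normalizer hc _)
  rw [uGen_le_iff]
  intro a ha hap t
  have key : ∀ b : F, ∀ g ∈ uGen D F (HighW x), elX D F a b * g * (elX D F a b)⁻¹ ∈ uGen D F (HighW x) := by
    intro b g hg
    induction hg using Subgroup.closure_induction with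
    | mem y hy =>
        obtain ⟨s, u, hs, hP, rfl⟩ := hy
        by_cases hsa : s = a
        · subst hsa
          rw [elX_add hc F hs, elX_inv hc F hs, elX_add hc F hs, show b + u + -b = u by ring]
          exact elX_mem_uGen hs hP u
        · exact elX_conj_high h2 ha hs hap (valR_nonneg hc hx ha hap) hP hsa b u
    | one => simp
    | mul y z _ _ hy hz =>
        rw [show elX D F a b * (y * z) * (elX D F a b)⁻¹ =
          (elX D F a b * y * (elX D F a b)⁻¹) * (elX D F a b * z * (elX D F a b)⁻¹) by group]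
        exact mul_mem hy hz
    | inv y _ hy =>
        rw [show elX D F a b * y⁻¹ * (elX D F a b)⁻¹ = (elX D F a b * y * (elX D F a b)⁻¹)⁻¹ by group]
        exact inv_mem hy
  rw [Subgroup.mem_normalizer_iff]
  refine fun g => ⟨key t g, fun hg => ?_⟩
  have := key (-t) _ hg
  rwa [← elX_inv hc F ha, inv_inv, show (elX D F a t)⁻¹ * (elX D F a t * g * (elX D F a t)⁻¹) * elX D F a t = g by group]
    at this

end CfsgLib.ReeBT
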