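import Cfsg.Agent.Lib.ReeBT.Minimiser
import Cfsg.Agent.Lib.ReeBT.Check
import Cfsg.Agent.Lib.Twisted.F4Fix
import Cfsg.Agent.Lib.Chev.ParabolicCard
import Cfsg.Agent.Lib.Chev.OrderCases

/-!
Borel–Tits for the large Ree groups: the centraliser of a non-trivial 2-element lies in a σ-stable
parabolic subgroup of F4, whose order involves only primes of q(q⁴ - 1).
-/

set_option autoImplicit false
set_option linter.unusedSectionVars false

namespace CfsgLib.ReeBT

open Cfsg.Lie CfsgLib.Chev CfsgLib.ChevCent CfsgLib.ReeF4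

/-- the twisted point -/
noncomputable def xtw (x : Fin D.rank → ℝ) : Fin D.rank → ℝ :=
  fun i => Real.sqrt 2 / 2 * ((ef (D.simple i.val) : ℝ) * valR D tb x (rho (D.simple i.val)))

theorem simple_rho : ∀ i : Fin 4, rho (D.simple i.val) = D.simple (3 - i.val) := by decide +kernel

theorem valR_twist (x : Fin D.rank → ℝ) {r : ℕ} (hr : r < D.nroots) :
    valR D tb (xtw x) r = Real.sqrt 2 / 2 * ((ef r : ℝ) * valR D tb x (rho r)) := by
  have h : ∀ j : Fin 4, (ef r : ℝ) * (wt D tb (rho r) j.val : ℝ) =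
      (wt D tb r 0 : ℝ) * ((ef (D.simple 0) : ℝ) * (wt D tb (rho (D.simple 0)) j.val : ℝ)) +
      (wt D tb r 1 : ℝ) * ((ef (D.simple 1) : ℝ) * (wt D tb (rho (D.simple 1)) j.val : ℝ)) +
      (wt D tb r 2 : ℝ) * ((ef (D.simple 2) : ℝ) * (wt D tb (rho (D.simple 2)) j.val : ℝ)) +
      (wt D tb r 3 : ℝ) * ((ef (D.simple 3) : ℝ) * (wt D tb (rho (D.simple 3)) j.val : ℝ)) :=
    fun j => by exact_mod_cast lin_check ⟨r, hr⟩ j
  have h0 := h 0; have h1 := h 1; have h2 := h 2; have h3 := h 3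
  obtain ⟨y, hy⟩ : ∃ y : Fin 4 → ℝ, y = x := ⟨x, rfl⟩
  subst hy
  show (∑ i : Fin 4, (wt D tb r i.val : ℝ) * (Real.sqrt 2 / 2 * ((ef (D.simple i.val) : ℝ) *
      ∑ j : Fin 4, (wt D tb (rho (D.simple i.val)) j.val : ℝ) * y j))) =
    Real.sqrt 2 / 2 * ((ef r : ℝ) * ∑ j : Fin 4, (wt D tb (rho r) j.val : ℝ) * y j)
  simp only [Fin.sum_univ_four]
  simp only [Fin.val_zero, Fin.val_one, Fin.val_two, show ((3 : Fin 4) : ℕ) = 3 from rfl] at h0 h1 h2 h3 ⊢
  linear_combination -(Real.sqrt 2 / 2 * y 0) * h0 - (Real.sqrt 2 / 2 * y 1) * h1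
    - (Real.sqrt 2 / 2 * y 2) * h2 - (Real.sqrt 2 / 2 * y 3) * h3

theorem rexp_rho {r : ℕ} (hr : r < 48) :
    (rexp r = 2 ∧ rexp (rho r) = 1) ∨ (rexp r = 1 ∧ rexp (rho r) = 2) := by
  have h := rexp_mul hr
  rcases rexp_cases ⟨r, hr⟩ with e | e <;> simp only at e <;> rw [e] at h
  · exact Or.inr ⟨e, by omega⟩
  · exact Or.inl ⟨e, by omega⟩

theorem quadW_twist (x : Fin D.rank → ℝ) : quadW (xtw x) = quadW x := by
  refine Finset.sum_nbij' (fun r => rho r) (fun r => rho r)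
    (fun r hr => Finset.mem_range.2 (rho_lt (Finset.mem_range.1 hr)))
    (fun r hr => Finset.mem_range.2 (rho_lt (Finset.mem_range.1 hr)))
    (fun r hr => rho_rho (Finset.mem_range.1 hr)) (fun r hr => rho_rho (Finset.mem_range.1 hr))
    (fun r hr => ?_)
  rw [valR_twist x (Finset.mem_range.1 hr)]
  have hs := Real.sq_sqrt (show (0 : ℝ) ≤ 2 by norm_num)
  rcases rexp_rho (Finset.mem_range.1 hr) with ⟨e1, e2⟩ | ⟨e1, e2⟩
  · simp only [wq, ef, e1, e2, if_true, if_neg (show ¬(1 : ℕ) = 2 by decide), Int.cast_one, one_mul]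
    rw [mul_pow, div_pow, hs]; ring
  · simp only [wq, ef, e1, e2, if_true, if_neg (show ¬(1 : ℕ) = 2 by decide), Int.cast_ofNat, one_mul]
    rw [mul_pow, mul_pow, div_pow, hs]; ring

theorem high_twist {x : Fin D.rank → ℝ} {r : ℕ} (hr : r < 48) (h : HighW x r) : HighW (xtw x) (rho r) := by
  refine ⟨(rho_pos hr).2 h.1, ?_⟩
  rw [valR_twist x (show rho r < D.nroots from rho_lt hr), rho_rho hr]
  have h1 := h.2
  have hs := Real.mul_self_sqrt (show (0 : ℝ) ≤ 2 by norm_num)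
  have hp := one_le_sqrt_two
  rcases rexp_rho hr with ⟨e1, e2⟩ | ⟨e1, e2⟩
  · simp only [thr, ef, e1, e2, if_true, if_neg (show ¬(1 : ℕ) = 2 by decide), Int.cast_ofNat] at h1 ⊢
    nlinarith
  · simp only [thr, ef, e1, e2, if_true, if_neg (show ¬(1 : ℕ) = 2 by decide), Int.cast_one, one_mul] at h1 ⊢
    nlinarith

theorem xtw_nonneg {x : Fin D.rank → ℝ} (hx : ∀ i, 0 ≤ x i) (i : Fin D.rank) : 0 ≤ xtw x i := by
  have hlt := simple_lt hc i.2
  refine mul_nonneg (div_nonneg (Real.sqrt_nonneg _) zero_le_two) (mul_nonneg ?_ ?_)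
  · exact_mod_cast (show (0 : ℤ) ≤ ef (D.simple i.val) by unfold ef; split <;> norm_num)
  · exact valR_nonneg hc hx (rho_lt hlt) ((rho_pos hlt).2 (half_le_simple hc i.2))

/-- the possible σ-stable proper sets of nodes -/
theorem zset_cases {x : Fin D.rank → ℝ} (hx : xtw x = x) (hne : ∃ i, x i ≠ 0) :
    ∃ J ∈ ([[], [⟨0, by decide⟩, ⟨3, by decide⟩], [⟨1, by decide⟩, ⟨2, by decide⟩]] : List (List (Fin D.rank))),
      ∀ i : Fin D.rank, i ∈ J ↔ (i : ℕ) ∈ zset x := by
  have hz : ∀ i : Fin D.rank, (i : ℕ) ∈ zset x ↔ x i = 0 := fun i =>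
    ⟨fun ⟨_, h⟩ => h, fun h => ⟨i.2, h⟩⟩
  have hpair : ∀ i : Fin 4, x i = 0 → x ⟨3 - i.val, by show 3 - i.val < 4; omega⟩ = 0 := by
    intro i hi
    have h : Real.sqrt 2 / 2 * ((ef (D.simple i.val) : ℝ) * valR D tb x (rho (D.simple i.val))) = x i :=
      congrFun hx i
    have e : valR D tb x (D.simple (3 - i.val)) = x ⟨3 - i.val, by show 3 - i.val < 4; omega⟩ :=
      valR_simple hc x ⟨3 - i.val, by show 3 - i.val < 4; omega⟩
    rw [simple_rho i, e, hi] at h
    rcases mul_eq_zero.1 h with g | g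
    · have := one_le_sqrt_two; linarith
    · rcases mul_eq_zero.1 g with g | g
      · exfalso
        have : ef (D.simple i.val) = 0 := by exact_mod_cast g
        unfold ef at this; split at this <;> simp at this
      · exact g
  by_cases h0 : x (⟨0, by decide⟩ : Fin D.rank) = 0
  · have h3 := hpair ⟨0, by decide⟩ h0
    have h1 : x (⟨1, by decide⟩ : Fin D.rank) ≠ 0 := by
      intro h1
      have h2 := hpair ⟨1, by decide⟩ h1
      obtain ⟨⟨i, hi⟩, hi'⟩ := hne
      match i, hi with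
      | 0, _ => exact hi' h0
      | 1, _ => exact hi' h1
      | 2, _ => exact hi' h2
      | 3, _ => exact hi' h3
      | k + 4, h => exact absurd h (by show ¬ k + 4 < 4; omega)
    have h2 : x (⟨2, by decide⟩ : Fin D.rank) ≠ 0 := fun h2 => h1 (hpair ⟨2, by decide⟩ h2)
    refine ⟨_, List.mem_cons_of_mem _ List.mem_cons_self, fun i => ?_⟩
    rw [hz i]
    obtain ⟨i, hi⟩ := i
    match i, hi with
    | 0, _ => simpa using h0
    | 1, _ => simpa [Fin.ext_iff] using h1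
    | 2, _ => simpa [Fin.ext_iff] using h2
    | 3, _ => simpa [Fin.ext_iff] using h3
    | k + 4, h => exact absurd h (by show ¬ k + 4 < 4; omega)
  · have h3 : x (⟨3, by decide⟩ : Fin D.rank) ≠ 0 := fun h3 => h0 (hpair ⟨3, by decide⟩ h3)
    by_cases h1 : x (⟨1, by decide⟩ : Fin D.rank) = 0
    · have h2 := hpair ⟨1, by decide⟩ h1
      refine ⟨_, List.mem_cons_of_mem _ (List.mem_cons_of_mem _ List.mem_cons_self), fun i => ?_⟩
      rw [hz i]
      obtain ⟨i, hi⟩ := i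
      match i, hi with
      | 0, _ => simpa [Fin.ext_iff] using h0
      | 1, _ => simpa [Fin.ext_iff] using h1
      | 2, _ => simpa [Fin.ext_iff] using h2
      | 3, _ => simpa [Fin.ext_iff] using h3
      | k + 4, h => exact absurd h (by show ¬ k + 4 < 4; omega)
    · have h2 : x (⟨2, by decide⟩ : Fin D.rank) ≠ 0 := fun h2 => h1 (hpair ⟨2, by decide⟩ h2)
      refine ⟨_, List.mem_cons_self, fun i => ?_⟩
      rw [hz i]
      obtain ⟨i, hi⟩ := i
      match i, hi with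
      | 0, _ => simpa using h0
      | 1, _ => simpa using h1
      | 2, _ => simpa using h2
      | 3, _ => simpa using h3
      | k + 4, h => exact absurd h (by show ¬ k + 4 < 4; omega)

variable {K : Type*} [Field K] [Fintype K]

theorem wsum_cases (q : ℕ)
    {J : List (Fin D.rank)} (hJ : J ∈ ([[], [⟨0, by decide⟩, ⟨3, by decide⟩], [⟨1, by decide⟩, ⟨2, by decide⟩]] : List (List (Fin D.rank)))) :
    wsum hc J q ∣ (1 + q) ^ 2 * (1 + q ^ 2) := by
  have a0 := wsum_step' hc cartF4 cartF4_eq ([] : List (Fin chevF4.rank)) ⟨0, by decide⟩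
    (by decide) (m := 2) (by norm_num) [1, 1] (by decide +kernel) q
  have a1 := wsum_step' hc cartF4 cartF4_eq [(⟨0, by decide⟩ : Fin chevF4.rank)] ⟨3, by decide⟩
    (by decide) (m := 2) (by norm_num) [1, 1] (by decide +kernel) q
  have b0 := wsum_step' hc cartF4 cartF4_eq ([] : List (Fin chevF4.rank)) ⟨1, by decide⟩
    (by decide) (m := 2) (by norm_num) [1, 1] (by decide +kernel) q
  have b1 := wsum_step' hc cartF4 cartF4_eq [(⟨1, by decide⟩ : Fin chevF4.rank)] ⟨2, by decide⟩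
    (by decide) (m := 4) (by norm_num) [1, 1, 1, 1] (by decide +kernel) q
  simp only [List.cons_append, List.nil_append] at a0 a1 b0 b1
  simp only [List.mem_cons, List.not_mem_nil, or_false] at hJ
  rcases hJ with rfl | rfl | rfl
  · rw [wsum_nil]; exact one_dvd _
  · rw [a1, a0, wsum_nil]; simp only [polyEval]
    exact ⟨1 + q ^ 2, by ring⟩
  · rw [b1, b0, wsum_nil]; simp only [polyEval]
    exact ⟨1, by ring⟩

/-- the order of an element centralising a non-trivial 2-element of ²F₄(q) -/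
theorem orderOf_dvd {m : ℕ} (hK : Fintype.card K = 2 ^ (2 * m + 1))
    {a b : GL D.Idx K} (ha : a ∈ twistedF4 K (2 ^ m)) (hb : b ∈ twistedF4 K (2 ^ m))
    (ha2 : IsPGroup 2 (Subgroup.zpowers a)) (ha1 : a ≠ 1) (hab : Commute a b) :
    orderOf b ∣ (Fintype.card K) ^ 24 * (Fintype.card K - 1) ^ 4 *
      ((1 + Fintype.card K) ^ 2 * (1 + Fintype.card K ^ 2)) := by
  classical
  haveI : CharP K 2 := charP_two hK
  obtain ⟨σ, hσ⟩ := exists_sigma (K := K) hK
  have haF := mem_fixF.1 (G1_le_fix hσ ha)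
  have hbF := mem_fixF.1 (G1_le_fix hσ hb)
  have hRF : Subgroup.zpowers a ≤ fixF σ := (Subgroup.zpowers_le).2 (G1_le_fix hσ ha)
  obtain ⟨g, x, hgx, hmin⟩ := exists_minimiser (R := Subgroup.zpowers a) (hRF.trans fixF_le_group) ha2
  obtain ⟨hgG, hx, hgR⟩ := hgx
  have hsf : FeasW (Subgroup.zpowers a) (simg σ g) (xtw x) := by
    refine ⟨simg_mem hgG, xtw_nonneg hx, fun k hk => ?_⟩
    obtain ⟨hkG, hkf⟩ := mem_fixF.1 (hRF hk)
    have h := simg_mem_uGen hσ (Q := HighW (xtw x)) (fun r hr h => high_twist hr h) (hgR k hk)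
    rwa [simg_mul (mul_mem (inv_mem hgG) hkG) hgG, simg_mul (inv_mem hgG) hkG, simg_inv hgG, hkf] at h
  obtain ⟨hxx, -⟩ := minimiser_unique hσ.char2 ⟨hgG, hx, hgR⟩ hsf (quadW_twist x) hmin
  have hne : ∃ i, x i ≠ 0 := by
    by_contra hall
    push Not at hall
    refine ha1 ?_
    have hbot : uGen D K (HighW x) = ⊥ := by
      rw [eq_bot_iff, uGen_le_iff]
      intro r _ h
      exfalso
      have h0 : valR D tb x r = 0 := Finset.sum_eq_zero fun j _ => by rw [hall j, mul_zero]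
      have := h.2; have := one_le_thr r
      linarith
    have h1 := hgR a (Subgroup.mem_zpowers a)
    rw [hbot, Subgroup.mem_bot] at h1
    have : a = g * (g⁻¹ * a * g) * g⁻¹ := by group
    rw [this, h1]; group
  obtain ⟨J, hJ, hJz⟩ := zset_cases hxx.symm hne
  have hfeas : FeasW (Subgroup.zpowers a) (b * g) x := ⟨mul_mem hbF.1 hgG, hx, fun k hk => by
    obtain ⟨n, rfl⟩ := Subgroup.mem_zpowers_iff.1 hk
    have e : b⁻¹ * a ^ n * b = a ^ n := by
      rw [mul_assoc, (hab.zpow_left n).eq, ← mul_assoc, inv_mul_cancel, one_mul]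
    have h1 := hgR _ hk
    convert h1 using 1
    calc (b * g)⁻¹ * a ^ n * (b * g) = g⁻¹ * (b⁻¹ * a ^ n * b) * g := by group
      _ = g⁻¹ * a ^ n * g := by rw [e]⟩
  obtain ⟨-, hP⟩ := minimiser_unique hσ.char2 ⟨hgG, hx, hgR⟩ hfeas rfl hmin
  have hord : orderOf b = orderOf (⟨g⁻¹ * (b * g), hP⟩ : ↥(D.parabolicSubgroup K (zset x))) := by
    rw [← Subgroup.orderOf_coe]
    exact (MulEquiv.orderOf_eq (MulAut.conj g⁻¹) b).symm.trans (by simp [mul_assoc])
  rw [hord]
  refine (orderOf_dvd_natCard _).trans ?_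
  rw [card_parabolic hc hcomm hJz, show D.nroots / 2 = 24 from rfl]
  have hH := card_diagonal_F4 (F := K)
  refine mul_dvd_mul (mul_dvd_mul dvd_rfl ?_) (wsum_cases _ hJ)
  exact ⟨1, by rw [mul_one, ← hH]; simp⟩

end CfsgLib.ReeBT
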